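import Groth.Prelude.Def_W4stkschemesremainderFib
import Mathlib.AlgebraicGeometry.Morphisms.QuasiFinite
import Mathlib.RingTheory.ZariskisMainTheorem
import Mathlib.RingTheory.Localization.BaseChange
import Mathlib.LinearAlgebra.FreeModule.Finite.Basic
import Mathlib.RingTheory.Artinian.Ring

/-!
Fibres of a quasi-finite morphism from a quasi-compact scheme are universally bounded.
-/

set_option autoImplicit false

universe u

open AlgebraicGeometry CategoryTheory Limits TensorProduct

namespace Groth.Agent.BddFib23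

theorem exists_bound_away {A B : Type u} [CommRing A] [CommRing B] [Algebra A B] [Algebra.FiniteType A B]
    [Algebra.QuasiFinite A B] (P : Ideal B) [P.IsPrime] :
    ∃ g : B, g ∉ P ∧ ∃ n : ℕ, ∀ (K : Type u) [Field K] [Algebra A K],
      Module.finrank K (K ⊗[A] Localization.Away g) ≤ n := by
  classical
  obtain ⟨C, hC, r, hr, hbij⟩ := Algebra.QuasiFiniteAt.exists_fg_and_exists_notMem_and_awayMap_bijective (R := A) P
  haveI : Module.Finite A C := Module.Finite.iff_fg.2 hC
  obtain ⟨n, π, hπ⟩ := Module.Finite.exists_fin' A C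
  refine ⟨r.1, hr, n, fun K _ _ => ?_⟩
  let e : Localization.Away r ≃ₐ[A] Localization.Away r.1 :=
    AlgEquiv.ofBijective (Localization.awayMapₐ C.val r) hbij
  let ι : C →ₐ[A] Localization.Away r := IsScalarTower.toAlgHom A C _
  let L := K ⊗[A] Localization.Away r
  haveI : Module.Finite K (K ⊗[A] C) := inferInstance
  haveI : IsArtinianRing (K ⊗[A] C) := IsArtinianRing.of_finite K _
  let f := Algebra.TensorProduct.map (AlgHom.id K K) ι
  letI : Algebra (K ⊗[A] C) L := f.toAlgebra
  haveI := IsLocalization.tensorProduct_tensorProduct_right A K (Submonoid.powers r) (Localization.Away r)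
    (by ext; simp [f, ι, RingHom.algebraMap_toAlgebra])
  have hsurj : Function.Surjective f := IsArtinianRing.localization_surjective
    ((Submonoid.powers r).map (Algebra.TensorProduct.includeRight (R := A) (A := K))) L
  have h1 : Module.finrank K L ≤ Module.finrank K (K ⊗[A] C) :=
    LinearMap.finrank_le_finrank_of_surjective (f := f.toLinearMap) hsurj
  have h2 : Module.finrank K (K ⊗[A] C) ≤ Module.finrank K (K ⊗[A] (Fin n → A)) :=
    LinearMap.finrank_le_finrank_of_surjective (f := π.baseChange K)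
      (LinearMap.lTensor_surjective K hπ)
  rw [← (Algebra.TensorProduct.congr (AlgEquiv.refl : K ≃ₐ[K] K) e).toLinearEquiv.finrank_eq]
  refine h1.trans (h2.trans ?_)
  rw [(TensorProduct.piScalarRight A K K (Fin n)).finrank_eq]
  simp

theorem exists_bound {A B : Type u} [CommRing A] [CommRing B] [Algebra A B] [Algebra.FiniteType A B]
    [Algebra.QuasiFinite A B] :
    ∃ n : ℕ, ∀ (K : Type u) [Field K] [Algebra A K],
      Module.Finite K (K ⊗[A] B) ∧ Module.finrank K (K ⊗[A] B) ≤ n := by
  classical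
  choose g hg m hm using fun P : PrimeSpectrum B => exists_bound_away (A := A) P.asIdeal
  have htop : Ideal.span (Set.range g) = ⊤ := by
    by_contra h
    obtain ⟨M, hM, hle⟩ := Ideal.exists_le_maximal _ h
    exact hg ⟨M, hM.isPrime⟩ (hle (Ideal.subset_span ⟨_, rfl⟩))
  obtain ⟨T, hTsub, hT⟩ := Submodule.mem_span_finite_of_mem_span ((Ideal.eq_top_iff_one _).1 htop)
  choose idx hidx using fun t : T => hTsub t.2
  refine ⟨∑ t : T, m (idx t), fun K _ _ => ?_⟩
  haveI : Module.Finite K (K ⊗[A] B) := Module.Finite.of_quasiFinite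
  refine ⟨inferInstance, ?_⟩
  let Lt := fun t : T => K ⊗[A] Localization.Away (g (idx t))
  let f := fun t : T => Algebra.TensorProduct.map (AlgHom.id K K)
    (IsScalarTower.toAlgHom A B (Localization.Away (g (idx t))))
  haveI hfin : ∀ t : T, Module.Finite K (Lt t) := fun t => by
    letI : Algebra (K ⊗[A] B) (Lt t) := (f t).toAlgebra
    haveI := IsLocalization.tensorProduct_tensorProduct_right A K (Submonoid.powers (g (idx t)))
      (Localization.Away (g (idx t))) (by ext; simp [f, RingHom.algebraMap_toAlgebra])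
    haveI : IsArtinianRing (K ⊗[A] B) := IsArtinianRing.of_finite K _
    exact Module.Finite.of_surjective (f t).toLinearMap (IsArtinianRing.localization_surjective
      ((Submonoid.powers (g (idx t))).map (Algebra.TensorProduct.includeRight (R := A) (A := K))) (Lt t))
  let F : K ⊗[A] B →ₗ[K] (Π t : T, Lt t) := LinearMap.pi fun t => (f t).toLinearMap
  have hF : Function.Injective F := by
    rw [injective_iff_map_eq_zero]
    intro x hx
    have h0 : ∀ t : T, ∃ k : ℕ, ((1 : K) ⊗ₜ[A] g (idx t) : K ⊗[A] B) ^ k * x = 0 := fun t => by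
      letI : Algebra (K ⊗[A] B) (Lt t) := (f t).toAlgebra
      haveI := IsLocalization.tensorProduct_tensorProduct_right A K (Submonoid.powers (g (idx t)))
        (Localization.Away (g (idx t))) (by ext; simp [f, RingHom.algebraMap_toAlgebra])
      obtain ⟨⟨_, _, ⟨k, rfl⟩, rfl⟩, hk⟩ := (IsLocalization.map_eq_zero_iff
        ((Submonoid.powers (g (idx t))).map (Algebra.TensorProduct.includeRight (R := A) (A := K)))
        (Lt t) x).1 (congrFun hx t)
      refine ⟨k, ?_⟩
      rw [← hk]
      congr 1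
      exact (map_pow (Algebra.TensorProduct.includeRight (R := A) (A := K)) (g (idx t)) k).symm
    choose k hk using h0
    let I : Ideal (K ⊗[A] B) := LinearMap.ker (LinearMap.toSpanSingleton _ _ x)
    have htopI : I.radical = ⊤ := by
      rw [Ideal.eq_top_iff_one]
      have h1 : (1 : B) ∈ (I.radical).comap (Algebra.TensorProduct.includeRight (R := A) (A := K)) := by
        refine Submodule.span_le.2 (fun t ht => ?_) hT
        refine ⟨k ⟨t, ht⟩, ?_⟩
        show ((1 : K) ⊗ₜ[A] t : K ⊗[A] B) ^ k ⟨t, ht⟩ • x = 0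
        have := hk ⟨t, ht⟩
        simp only [hidx ⟨t, ht⟩] at this
        exact this
      simpa [Algebra.TensorProduct.one_def] using h1
    rw [Ideal.radical_eq_top] at htopI
    simpa [I] using (htopI ▸ Submodule.mem_top : (1 : K ⊗[A] B) ∈ I)
  refine (LinearMap.finrank_le_finrank_of_injective hF).trans ?_
  rw [Module.finrank_pi_fintype]
  exact Finset.sum_le_sum fun t _ => hm _ K

theorem univBounded {X Y : Scheme.{u}} (f : X ⟶ Y) [LocallyQuasiFinite f] [LocallyOfFiniteType f]
    [CompactSpace X] : BddFib.UnivBounded f := by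
  classical
  have hloc : ∀ x : X, ∃ (W : X.affineOpens) (A : Y.affineOpens), x ∈ W.1 ∧ W.1 ≤ f ⁻¹ᵁ A.1 := by
    intro x
    obtain ⟨_, ⟨A, hA, rfl⟩, hfA, -⟩ := Y.isBasis_affineOpens.exists_subset_of_mem_open (Set.mem_univ (f x)) isOpen_univ
    obtain ⟨_, ⟨W, hW, rfl⟩, hxW, hWV⟩ := X.isBasis_affineOpens.exists_subset_of_mem_open
      (show x ∈ f ⁻¹ᵁ A from hfA) (f ⁻¹ᵁ A).2
    exact ⟨⟨W, hW⟩, ⟨A, hA⟩, hxW, hWV⟩
  choose W A hxW hWA using hloc
  obtain ⟨T, hT⟩ := isCompact_univ.elim_finite_subcover (fun x => ((W x).1 : Set X)) (fun x => (W x).1.2)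
    fun x _ => Set.mem_iUnion.2 ⟨x, hxW x⟩
  have hb : ∀ x : X, ∃ n : ℕ, ∀ (K : Type u) [Field K] (φ : Γ(Y, (A x).1) ⟶ CommRingCat.of K),
      letI := φ.hom.toAlgebra
      letI := (f.appLE (A x).1 (W x).1 (hWA x)).hom.toAlgebra
      Module.Finite K (K ⊗[Γ(Y, (A x).1)] Γ(X, (W x).1)) ∧
        Module.finrank K (K ⊗[Γ(Y, (A x).1)] Γ(X, (W x).1)) ≤ n := by
    intro x
    letI := (f.appLE (A x).1 (W x).1 (hWA x)).hom.toAlgebra
    haveI : Algebra.FiniteType Γ(Y, (A x).1) Γ(X, (W x).1) :=
      HasRingHomProperty.appLE (P := @LocallyOfFiniteType) f inferInstance (A x) (W x) (hWA x)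
    haveI : Algebra.QuasiFinite Γ(Y, (A x).1) Γ(X, (W x).1) :=
      HasRingHomProperty.appLE (P := @LocallyQuasiFinite) f inferInstance (A x) (W x) (hWA x)
    obtain ⟨n, hn⟩ := exists_bound (A := Γ(Y, (A x).1)) (B := Γ(X, (W x).1))
    exact ⟨n, fun K _ φ => @hn K _ φ.hom.toAlgebra⟩
  choose n hn using hb
  refine ⟨∑ i : T, n i.1, fun y => ?_⟩
  let p := f.fiberToSpecResidueField y
  let S := {i : T // y ∈ (A i.1).1}
  have hψ : ∀ i : S, ∃ ψ : Γ(Y, (A i.1.1).1) ⟶ Y.residueField y,
      Spec.map ψ ≫ (A i.1.1).2.fromSpec = Y.fromSpecResidueField y := fun i => by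
    have hr : Set.range (Y.fromSpecResidueField y) ⊆ Set.range (A i.1.1).2.fromSpec := by
      rw [Scheme.range_fromSpecResidueField, IsAffineOpen.range_fromSpec]
      exact Set.singleton_subset_iff.2 i.2
    exact ⟨Spec.preimage (IsOpenImmersion.lift _ _ hr), by rw [Spec.map_preimage, IsOpenImmersion.lift_fac]⟩
  choose ψ hψ using hψ
  let φ := fun i : S => f.appLE (A i.1.1).1 (W i.1.1).1 (hWA i.1.1)
  let j : ∀ i : S, pullback (Spec.map (φ i)) (Spec.map (ψ i)) ⟶ f.fiber y := fun i =>
    pullback.map _ _ _ _ (W i.1.1).2.fromSpec (𝟙 _) (A i.1.1).2.fromSpec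
      (IsAffineOpen.SpecMap_appLE_fromSpec f (A i.1.1).2 (W i.1.1).2 (hWA i.1.1))
      (by rw [hψ, Category.id_comp])
  have hj : ∀ i, j i ≫ p = pullback.snd _ _ := fun i => by
    simp only [j, p, Scheme.Hom.fiberToSpecResidueField, pullback.map]
    erw [pullback.lift_snd, Category.comp_id]
  have hcov : ∀ x : f.fiber y, ∃ i : S, x ∈ Set.range (j i) := by
    intro x
    have hx : f (f.fiberι y x) = y := by
      have : f.fiberι y x ∈ f ⁻¹' {y} := f.range_fiberι y ▸ ⟨x, rfl⟩
      exact this
    obtain ⟨t, ht, hxt⟩ := Set.mem_iUnion₂.1 (hT (Set.mem_univ (f.fiberι y x)))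
    let i : S := ⟨⟨t, ht⟩, by rw [← hx]; exact hWA t hxt⟩
    obtain ⟨w, hw⟩ : f.fiberι y x ∈ Set.range (W t).2.fromSpec := by
      rw [IsAffineOpen.range_fromSpec]; exact hxt
    obtain ⟨q, hq, -⟩ := Scheme.Pullback.exists_preimage_pullback (f := Spec.map (φ i)) (g := Spec.map (ψ i)) w
      (p x) ((A t).2.fromSpec.isOpenEmbedding.injective (by
        rw [← Scheme.Hom.comp_apply, IsAffineOpen.SpecMap_appLE_fromSpec f (A t).2 (W t).2 (hWA t),
          Scheme.Hom.comp_apply, hw, hx, ← Scheme.Hom.comp_apply, hψ, Scheme.fromSpecResidueField_apply]))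
    refine ⟨i, q, (f.fiberι y).isEmbedding.injective ?_⟩
    rw [← Scheme.Hom.comp_apply, show j i ≫ f.fiberι y = pullback.fst _ _ ≫ (W t).2.fromSpec from
      pullback.lift_fst _ _ _, Scheme.Hom.comp_apply, hq, hw]
  haveI hjo : ∀ i, IsOpenImmersion (j i) := fun i => by
    haveI := (A i.1.1).2.isOpenImmersion_fromSpec
    haveI := (W i.1.1).2.isOpenImmersion_fromSpec
    exact Scheme.pullback_map_isOpenImmersion _ _ _ _ _ _ _ _ _
  let 𝒰 : (f.fiber y).OpenCover :=
    Scheme.Cover.mkOfCovers S (fun i => pullback (Spec.map (φ i)) (Spec.map (ψ i))) j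
      (fun x => (hcov x)) fun i => inferInstance
  haveI : Finite 𝒰.I₀ := inferInstanceAs (Finite S)
  haveI hcpt : ∀ i : 𝒰.I₀, CompactSpace (𝒰.X i) := fun i => by
    haveI : IsAffine (pullback (Spec.map (φ i)) (Spec.map (ψ i))) := inferInstance
    show CompactSpace ↥(pullback (Spec.map (φ i)) (Spec.map (ψ i)))
    infer_instance
  haveI : CompactSpace (f.fiber y) := 𝒰.compactSpace
  haveI : QuasiCompact p := (quasiCompact_iff_compactSpace p).2 inferInstance
  haveI : LocallyQuasiFinite p := MorphismProperty.pullback_snd (P := @LocallyQuasiFinite) _ _ inferInstance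
  haveI : IsFinite p := IsFinite.of_locallyQuasiFinite p
  letI : Algebra (Y.residueField y) Γ(f.fiber y, ⊤) := BddFib.secAlgebra _ p
  haveI : IsAffine (f.fiber y) := isAffine_of_isAffineHom p
  have hfinp : Module.Finite (Y.residueField y) Γ(f.fiber y, ⊤) := by
    have h1 : ((Scheme.ΓSpecIso (Y.residueField y)).inv ≫ p.appTop).hom.Finite := by
      rw [CommRingCat.hom_comp]
      exact (IsFinite.finite_app p ⊤ (isAffineOpen_top _)).comp
        (RingHom.Finite.of_surjective _ (ConcreteCategory.bijective_of_isIso (Scheme.ΓSpecIso (Y.residueField y)).inv).2)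
    exact h1
  refine ⟨inferInstance, hfinp, ?_⟩
  letI algW := fun i : S => (φ i).hom.toAlgebra
  letI algK := fun i : S => (ψ i).hom.toAlgebra
  let M := fun i : S => (Y.residueField y) ⊗[Γ(Y, (A i.1.1).1)] Γ(X, (W i.1.1).1)
  let e : ∀ i : S, Spec (CommRingCat.of (M i)) ⟶ f.fiber y := fun i =>
    (pullbackSpecIso Γ(Y, (A i.1.1).1) (Y.residueField y) Γ(X, (W i.1.1).1)).inv ≫
      (pullbackSymmetry (Spec.map (φ i)) (Spec.map (ψ i))).inv ≫ j i
  have he : ∀ i, e i ≫ p = Spec.map (CommRingCat.ofHom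
      (algebraMap (Y.residueField y) (M i))) := fun i => by
    simp only [e, Category.assoc, hj]
    erw [pullbackSymmetry_inv_comp_snd, pullbackSpecIso_inv_fst]
  haveI : ∀ i : S, Module.Finite (Y.residueField y) (M i) := fun i => (hn i.1.1 _ (ψ i)).1
  let ℓ : ∀ i : S, Γ(f.fiber y, ⊤) →ₗ[Y.residueField y] M i := fun i =>
    { toFun := fun s => (Scheme.ΓSpecIso _).hom ((e i).appTop s)
      map_add' := fun a b => by simp
      map_smul' := fun c s => by
        rw [RingHom.id_apply, Algebra.smul_def, Algebra.smul_def, map_mul, map_mul]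
        congr 1
        show (p.appTop ≫ (e i).appTop ≫ (Scheme.ΓSpecIso _).hom) ((Scheme.ΓSpecIso (Y.residueField y)).inv c) = _
        rw [← Category.assoc, ← Scheme.Hom.comp_appTop, he, Scheme.ΓSpecIso_naturality]
        exact congrArg (algebraMap (Y.residueField y) (M i))
          (congr($((Scheme.ΓSpecIso (Y.residueField y)).inv_hom_id) c)) }
  have hinj : Function.Injective (LinearMap.pi ℓ) := by
    intro a b hab
    refine 𝒰.ext_elem a b fun i => ?_
    have h1 : (e i).appTop a = (e i).appTop b :=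
      (ConcreteCategory.bijective_of_isIso (Scheme.ΓSpecIso (CommRingCat.of (M i))).hom).1 (congrFun hab i)
    simp only [e, Scheme.Hom.comp_appTop, CommRingCat.comp_apply] at h1
    haveI : ∀ {P Q : Scheme.{u}} (α : P ≅ Q), IsIso α.inv.appTop := fun α =>
      inferInstanceAs (IsIso (Scheme.Γ.map α.inv.op))
    exact (ConcreteCategory.bijective_of_isIso
      ((pullbackSymmetry (Spec.map (φ i)) (Spec.map (ψ i))).inv).appTop).1
        ((ConcreteCategory.bijective_of_isIso
          ((pullbackSpecIso Γ(Y, (A i.1.1).1) (Y.residueField y) Γ(X, (W i.1.1).1)).inv).appTop).1 h1)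
  refine (LinearMap.finrank_le_finrank_of_injective hinj).trans ?_
  rw [Module.finrank_pi_fintype]
  calc ∑ i : S, Module.finrank (Y.residueField y) (M i) ≤ ∑ i : S, n i.1.1 :=
        Finset.sum_le_sum fun i _ => (hn i.1.1 _ (ψ i)).2
    _ ≤ ∑ i : T, n i.1 := by
        refine le_of_eq_of_le (Finset.sum_map Finset.univ ⟨fun i : S => i.1, Subtype.val_injective⟩
          (fun i : T => n i.1)).symm (Finset.sum_le_sum_of_subset (Finset.subset_univ _))

end Groth.Agent.BddFib23
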